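import Groth.Agent.EtpbcA.FinPush
import Groth.Agent.Etcore.LSpread

/-!
# Direct images of constructible sheaves of `Λ`-modules under finite morphisms

`isConstructible_push`: `Λ` Noetherian, `f` finite of finite presentation, `F` a constructible sheaf of
`Λ`-modules ⟹ `f_* F` constructible. (The module version of `EtpbcA.FinPush`.)
-/

set_option autoImplicit false
universe u

open CategoryTheory CategoryTheory.Limits AlgebraicGeometry Opposite Topology

namespace Groth.Agent.Fixpt.H875.FinPushMod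

open Groth.Agent.Etbase Groth.Agent.Etcore Groth.Agent.Etcore.LVan Groth.Agent.EtpbcA
open Groth.Agent.EtpbcA.ConsPull (fstBc fst_bc_map_apply exists_bc_point)
open Groth.Agent.Etbase.EtGlue Groth.Agent.EtpbcA.FinPiece
open Groth.Agent.EtpbcA.FinPush (eq_of_diag diagLocus eq_of_mem_diagLocus isLocallyConstructible_diagLocus
  exists_algGeomPoint)

variable {Λ : Type (u + 1)} [CommRing Λ]

section Glue

variable {X : Scheme.{u}} (F : EtModW.Mod Λ X)

theorem exists_glueHom (W : X.Etale) {ι : Type*} (B : ι → W.left.Opens)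
    (hd : ∀ i j, i ≠ j → Disjoint (B i : Set W.left) (B j)) (hc : ∀ x : W.left, ∃ i, x ∈ B i)
    {M : ι → Type*} [∀ i, AddCommGroup (M i)] [∀ i, Module Λ (M i)]
    (φ : ∀ i, M i →ₗ[Λ] EtModW.sect Λ F (opn W (B i))) :
    ∃ Φ : (∀ i, M i) →ₗ[Λ] EtModW.sect Λ F W, ∀ m i, res F (opnι W (B i)) (Φ m) = φ i (m i) := by
  have hcov : ⋃ i, Set.range (opnι W (B i)).left = Set.univ := by
    rw [Set.eq_univ_iff_forall]
    intro x
    obtain ⟨i, hi⟩ := hc x
    refine Set.mem_iUnion.2 ⟨i, ?_⟩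
    rw [range_opnι]
    exact hi
  have hdisj : ∀ i j, i ≠ j →
      Disjoint (Set.range (opnι W (B i)).left) (Set.range (opnι W (B j)).left) := by
    intro i j hij
    rw [range_opnι, range_opnι]
    exact hd i j hij
  have ext : ∀ t t' : EtModW.sect Λ F W, (∀ i, res F (opnι W (B i)) t = res F (opnι W (B i)) t') →
      t = t' := fun t t' h => ext_of_cover (ab F) (fun i => opnι W (B i)) hcov h
  have h : ∀ m : (∀ i, M i), ∃ t : EtModW.sect Λ F W, ∀ i, res F (opnι W (B i)) t = φ i (m i) :=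
    fun m => (existsUnique_glue_disjoint (ab F) (fun i => opnι W (B i)) hcov hdisj
      (fun i => φ i (m i))).exists
  choose Φ hΦ using h
  refine ⟨⟨⟨Φ, ?_⟩, ?_⟩, hΦ⟩
  · intro a b
    refine ext _ _ fun i => ?_
    rw [map_add, hΦ, hΦ, hΦ]
    exact map_add (φ i) _ _
  · intro c a
    refine ext _ _ fun i => ?_
    change res F (opnι W (B i)) (Φ (c • a)) = res F (opnι W (B i)) (c • Φ a)
    rw [map_smul, hΦ, hΦ]
    exact map_smul (φ i) _ _

end Glue

section Push

variable {X Y : Scheme.{u}} (f : X ⟶ Y) (F : EtModW.Mod Λ X)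

/-- Sections of `f_* F` over `V` are sections of `F` over `X_V`. -/
theorem van_push_iff [IsFinite f] {V : Y.Etale} (s : EtModW.sect Λ F ((EtCoh.bc f).obj V))
    (v : V.left) :
    Van ((EtModW.push Λ f).obj F) (U := V) s v ↔
      ∀ z : ((EtCoh.bc f).obj V).left, fstBc f V z = v → Van F s z := by
  constructor
  · rintro ⟨W, g, w, hw, hg⟩ z hz
    obtain ⟨z', hz1, hz2⟩ := exists_bc_point f g w z (hw.trans hz.symm)
    exact ⟨(EtCoh.bc f).obj W, (EtCoh.bc f).map g, z', hz2, hg⟩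
  · intro h
    have hfst : IsFinite (fstBc f V) := inferInstanceAs (IsFinite (pullback.fst V.hom f))
    let Z : Set ((EtCoh.bc f).obj V).left := {z | Van F s z}ᶜ
    have hZ : IsClosed Z := (isOpen_van s).isClosed_compl
    have hZc : IsClosed (fstBc f V '' Z) := (fstBc f V).isClosedMap _ hZ
    let V₀ : V.left.Opens := ⟨(fstBc f V '' Z)ᶜ, hZc.isOpen_compl⟩
    have hv : v ∈ V₀ := by
      rintro ⟨z, hz, hzv⟩
      exact hz (h z hzv)
    refine ⟨opn V V₀, opnι V V₀, ⟨v, hv⟩, rfl, ?_⟩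
    apply eq_zero_of_van (F := F) (U := (EtCoh.bc f).obj (opn V V₀))
    intro x
    change Van F (res F ((EtCoh.bc f).map (opnι V V₀)) s) x
    rw [van_res_iff]
    by_contra hne
    have h1 : fstBc f V (((EtCoh.bc f).map (opnι V V₀)).left x) =
        V₀.ι (fstBc f (opn V V₀) x) := fst_bc_map_apply f (opnι V V₀) x
    have h2 : V₀.ι (fstBc f (opn V V₀) x) ∈ V₀ := (fstBc f (opn V V₀) x).2
    exact h2 ⟨_, hne, h1⟩

end Push

section Key

variable {X Y : Scheme.{u}} (f : X ⟶ Y) [IsFinite f] (F : EtModW.Mod Λ X)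
  {V : Y.Etale} {ι : Type} (B : ι → ((EtCoh.bc f).obj V).left.Opens)
  (hcov : ∀ x : ((EtCoh.bc f).obj V).left, ∃ i, x ∈ B i)
  {M : ι → Type (u + 1)} [∀ i, AddCommGroup (M i)] [∀ i, Module Λ (M i)]
  (φ : ∀ i, M i →ₗ[Λ] EtModW.sect Λ F (opn ((EtCoh.bc f).obj V) (B i)))
  (Φ : (∀ i, M i) →ₗ[Λ] EtModW.sect Λ F ((EtCoh.bc f).obj V))
  (hΦ : ∀ m i, res F (opnι ((EtCoh.bc f).obj V) (B i)) (Φ m) = φ i (m i))
  (c : V.left)
  (hc : ∀ i, ∃ b : (B i).toScheme, fstBc f V ((B i).ι b) = c ∧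
    InjAt F (U := opn ((EtCoh.bc f).obj V) (B i)) (φ i) b ∧
    SurjAt F (U := opn ((EtCoh.bc f).obj V) (B i)) (φ i) b)

/-- The map `Φ` as a map to sections of the direct image. -/
noncomputable def toPush : (∀ i, M i) →ₗ[Λ] EtModW.sect Λ ((EtModW.push Λ f).obj F) V where
  toFun m := Φ m
  map_add' a b := Φ.map_add a b
  map_smul' a b := Φ.map_smul a b

include hΦ hc in
theorem injAt_push : InjAt ((EtModW.push Λ f).obj F) (U := V) (toPush f F Φ) c := by
  intro m hm
  have hm' := (van_push_iff f F (Φ m) c).1 hm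
  funext i
  obtain ⟨b, hb, hinj, -⟩ := hc i
  apply hinj
  rw [← hΦ]
  exact (van_res_iff (F := F) (opnι ((EtCoh.bc f).obj V) (B i)) b).2 (hm' _ hb)

variable (hd : ∀ i, c ∈ diagLocus (fstBc f V) (B i))

include hΦ hc hd hcov in
theorem surjAt_push : SurjAt ((EtModW.push Λ f).obj F) (U := V) (toPush f F Φ) c := by
  intro W g w hw t
  let t' : EtModW.sect Λ F ((EtCoh.bc f).obj W) := t
  let g' := (EtCoh.bc f).map g
  have key : ∀ i, ∃ mi : M i, ∀ z : ((EtCoh.bc f).obj W).left, fstBc f W z = w →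
      g'.left z ∈ B i → ∀ m : (∀ i, M i), m i = mi → Van F (t' - res F g' (Φ m)) z := by
    intro i
    by_cases hz : ∃ z : ((EtCoh.bc f).obj W).left, fstBc f W z = w ∧ g'.left z ∈ B i
    · obtain ⟨z₀, hz₀, hz₀B⟩ := hz
      have hz₀c : fstBc f V (g'.left z₀) = c := by rw [fst_bc_map_apply, hz₀, hw]
      obtain ⟨b, hb, -, hsurj⟩ := hc i
      have hbz : (B i).ι b = g'.left z₀ :=
        eq_of_mem_diagLocus (hd i) hb hz₀c b.2 hz₀B
      obtain ⟨P, a, k, p, hak, hap, hkp⟩ := EtSite.exists_pullback g'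
        (opnι ((EtCoh.bc f).obj V) (B i)) z₀ b hbz.symm
      obtain ⟨mi, hmi⟩ := hsurj P k p hkp (res F a t')
      refine ⟨mi, fun z hzw hzB m hm => ?_⟩
      have hzz : z = z₀ := by
        refine eq_of_diag (EtCoh.isPullback_bc_map f g) (hzw.trans hz₀.symm) ?_
        intro p hp1 hp2
        refine hd i p ?_ ?_ ?_
        · rw [Scheme.Hom.comp_apply]
          erw [hp1]
          rw [← hw, ← hzw]
          exact fst_bc_map_apply f g z
        · erw [hp1]; exact hzB
        · erw [hp2]; exact hz₀B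
      rw [hzz, ← hap]
      apply Van.of_res
      rw [map_sub, ← res_comp, hak, res_comp, hΦ, hm]
      exact hmi
    · refine ⟨0, fun z hzw hzB => (hz ⟨z, hzw, hzB⟩).elim⟩
  choose m hm using key
  refine ⟨m, ?_⟩
  refine (van_push_iff f F (t' - res F g' (Φ m)) w).2 fun z hz => ?_
  obtain ⟨i, hi⟩ := hcov (g'.left z)
  exact hm i z hz hi m rfl

end Key

theorem isConstructible_push [IsNoetherianRing Λ] {X Y : Scheme.{u}} (f : X ⟶ Y) [IsFinite f]
    [LocallyOfFinitePresentation f] (F : EtModW.Mod Λ X)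
    (hF : EtModW.IsConstructible Λ F) : EtModW.IsConstructible Λ ((EtModW.push Λ f).obj F) := by
  refine LCrit.isConstructible_of_good _ fun y => ?_
  obtain ⟨Ω, _, _, η, hη⟩ := exists_algGeomPoint Y y
  have hch : ∀ l : Lift f η, ∃ (U : X.Etale) (û : Spec (CommRingCat.of Ω) ⟶ U.left)
      (_ : û ≫ U.hom = l.1) (M : Type (u + 1)) (_ : AddCommGroup M) (_ : Module Λ M) (_ : Module.Finite Λ M)
      (φ : M →ₗ[Λ] EtModW.sect Λ F U), InjAt F φ (û default) ∧ SurjAt F φ (û default) := by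
    intro l
    obtain ⟨U, u, hu, M, i1, i2, i3, φ, hφ⟩ := LSpread.exists_good F hF (l.1 default)
    obtain ⟨û, h1, rfl⟩ := Scheme.exists_fac_of_etale_of_isSepClosed U.hom l.1 u hu
    exact ⟨U, û, h1, M, i1, i2, i3, φ, hφ⟩
  choose U û hû M iM1 iM2 iM3 φ hφ using hch
  obtain ⟨V, v, hv, B, ρ, hBc, hBd, hBcov, hw⟩ := exists_split f η U û hû
  choose w hw1 hw2 using hw
  have hfin : Finite (Lift f η) := Etrest.LqfPts.finite_fac f η
  obtain ⟨n, ⟨e⟩⟩ := Finite.exists_equiv_fin (Lift f η)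
  have hfst : IsFinite (fstBc f V) := inferInstanceAs (IsFinite (pullback.fst V.hom f))
  have hfst' : LocallyOfFinitePresentation (fstBc f V) :=
    inferInstanceAs (LocallyOfFinitePresentation (pullback.fst V.hom f))
  let A := (EtCoh.bc f).obj V
  let ψ : ∀ i : Fin n, M (e.symm i) →ₗ[Λ] EtModW.sect Λ F (opn A (B (e.symm i))) :=
    fun i => resHom (ρ (e.symm i)) (φ (e.symm i))
  obtain ⟨Φ, hΦ⟩ := exists_glueHom F A (fun i : Fin n => B (e.symm i))
    (fun i j hij => hBd _ _ fun h => hij (e.symm.injective h))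
    (fun x => by
      obtain ⟨l, hl⟩ := hBcov x
      refine ⟨e l, ?_⟩
      rwa [e.symm_apply_apply])
    ψ
  let E : ∀ i : Fin n, Set (B (e.symm i)).toScheme := fun i =>
    {b | InjAt F (U := opn A (B (e.symm i))) (ψ i) b ∧
      SurjAt F (U := opn A (B (e.symm i))) (ψ i) b}
  let R : Set V.left := ⋂ i : Fin n,
    ((((B (e.symm i)).ι ≫ fstBc f V) '' (E i)) ∩ diagLocus (fstBc f V) (B (e.symm i)))
  have hR : IsLocallyConstructible R := by
    refine IsLocallyConstructible.iInter fun i => ?_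
    refine IsLocallyConstructible.inter ?_
      (isLocallyConstructible_diagLocus (fstBc f V) (B (e.symm i)).isOpen (hBc _))
    have hci : IsClosedImmersion (B (e.symm i)).ι := .of_isPreimmersion _ (by
      rw [Scheme.Opens.range_ι]; exact hBc _)
    refine Scheme.Hom.isLocallyConstructible_image _ ?_
    exact LLocus.isLocallyConstructible_good hF (opn A (B (e.symm i))) (ψ i)
  have hvR : v default ∈ R := by
    refine Set.mem_iInter.2 fun i => ⟨⟨w (e.symm i) default, ?_, ?_⟩, ?_⟩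
    · have h0 := hφ (e.symm i)
      rw [← hw2] at h0
      exact ⟨(injAt_res_iff (F := F) (ρ (e.symm i)) (w (e.symm i) default) (φ (e.symm i))).2 h0.1,
        (surjAt_res_iff (F := F) (ρ (e.symm i)) (w (e.symm i) default) (φ (e.symm i))).2 h0.2⟩
    · rw [← Scheme.Hom.comp_apply, ← Category.assoc, hw1, pairPt_fst]
    · intro p hp hp1 hp2
      have hlqf : LocallyQuasiFinite (pullback.fst (fstBc f V) (fstBc f V) ≫ fstBc f V) :=
        inferInstance
      obtain ⟨ζ, hζ, rfl⟩ := Etrest.LqfPts.exists_fac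
        (pullback.fst (fstBc f V) (fstBc f V) ≫ fstBc f V) v p hp
      have hmem : ∀ l l', pairPt f η v hv l' default ∈ B l → l' = l := by
        intro l l' hl
        by_contra hne
        refine Set.disjoint_left.1 (hBd l' l hne) ?_ hl
        rw [← hw1]
        exact (w l' default).2
      obtain ⟨l₁, hl₁⟩ := eq_pairPt f η v hv (ζ ≫ pullback.fst _ _)
        (by rw [Category.assoc]; exact hζ)
      obtain ⟨l₂, hl₂⟩ := eq_pairPt f η v hv (ζ ≫ pullback.snd _ _)
        (by rw [Category.assoc, ← pullback.condition]; exact hζ)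
      have e1 : l₁ = e.symm i := by
        apply hmem
        rw [← hl₁]
        exact hp1
      have e2 : l₂ = e.symm i := by
        apply hmem
        rw [← hl₂]
        exact hp2
      have e3 : ζ = (ζ ≫ pullback.fst (fstBc f V) (fstBc f V)) ≫
          pullback.diagonal (fstBc f V) := by
        apply pullback.hom_ext
        · rw [Category.assoc, pullback.diagonal_fst, Category.comp_id]
        · rw [Category.assoc, pullback.diagonal_snd, Category.comp_id, hl₁, hl₂, e1, e2]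
      refine ⟨(ζ ≫ pullback.fst (fstBc f V) (fstBc f V)) default, ?_⟩
      rw [← Scheme.Hom.comp_apply, ← e3]
  refine ⟨V, v default, ?_, (∀ i : Fin n, M (e.symm i)), inferInstance, inferInstance, inferInstance,
    toPush f F Φ, R, hR, hvR, fun c hc => ?_⟩
  · rw [← Scheme.Hom.comp_apply, hv, hη]
  · have hc1 : ∀ i : Fin n, ∃ b : (B (e.symm i)).toScheme,
        fstBc f V ((B (e.symm i)).ι b) = c ∧
        InjAt F (U := opn A (B (e.symm i))) (ψ i) b ∧
        SurjAt F (U := opn A (B (e.symm i))) (ψ i) b := by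
      intro i
      obtain ⟨⟨b, hb, hbc⟩, -⟩ := Set.mem_iInter.1 hc i
      exact ⟨b, hbc, hb⟩
    have hc2 : ∀ i : Fin n, c ∈ diagLocus (fstBc f V) (B (e.symm i)) :=
      fun i => (Set.mem_iInter.1 hc i).2
    have hcov : ∀ x : ((EtCoh.bc f).obj V).left, ∃ i : Fin n, x ∈ B (e.symm i) := by
      intro x
      obtain ⟨l, hl⟩ := hBcov x
      refine ⟨e l, ?_⟩
      rwa [e.symm_apply_apply]
    exact ⟨injAt_push f F (fun i : Fin n => B (e.symm i)) ψ Φ hΦ c hc1,
      surjAt_push f F (fun i : Fin n => B (e.symm i)) hcov ψ Φ hΦ c hc1 hc2⟩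

end Groth.Agent.Fixpt.H875.FinPushMod
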